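import Cfsg.Agent.Helper17.SuzOut.TreeA

/-! Centralizers in `Suz` by a search over images of the base `0, 47, 79, 125, 7` of the
1782-point representation: an element `g` commuting with `V` maps the base to a tuple which
satisfies `r3 (g b_k) (V^i (g b_m)) = r3 b_k (V^i b_m)`; the tuples satisfying a list of such
tests are enumerated level by level. -/

set_option autoImplicit false
set_option linter.all false
set_option maxRecDepth 100000

noncomputable section

namespace Cfsg.Agent.Helper17.SuzOut

open Cfsg.Spor Cfsg.Agent.Helper17.SuzTC Cfsg.Agent.Helper17.SuzOrd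

/-- lookup in a packed permutation column (11 bits per entry) -/
def lkC (c i : ℕ) : ℕ := Nat.land (Nat.shiftRight c (Nat.mul 11 i)) 2047

/-- iterate the permutation of the column `c` -/
def itC (c : ℕ) (i : ℕ) : ℕ → ℕ :=
  Nat.rec (motive := fun _ => ℕ → ℕ) (fun p => p) (fun _ ih p => force (lkC c p) ih) i

theorem itC_zero (c p : ℕ) : itC c 0 p = p := rfl

theorem itC_succ (c i p : ℕ) : itC c (i + 1) p = itC c i (lkC c p) := by
  show force (lkC c p) (itC c i) = _
  rw [force_eq]

/-- the column `c` is the permutation of the word `w` -/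
def chkCol (c : ℕ) (w : List ℕ) : Bool :=
  (w.all fun l => decide (l < nl)) && TCG.allD 1782 fun p => Nat.beq (lkC c p) (evalA w p)

theorem phi_of_chkCol {c : ℕ} {w : List ℕ} (h : chkCol c w = true) {p : ℕ} (hp : p < N) :
    phi (prodw w) p = lkC c p := by
  simp only [chkCol, Bool.and_eq_true, List.all_eq_true, decide_eq_true_eq] at h
  rw [phi_prodw_apply _ h.1, evalw_eq_evalA _ h.1 hp]
  exact (TCG.nbeq.mp ((TCG.allD_iff _ _).mp h.2 p hp)).symm

theorem phi_pow_of_col {c : ℕ} {V : G} (hV : ∀ p, p < N → phi V p = lkC c p) (i : ℕ) {p : ℕ}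
    (hp : p < N) : phi (V ^ i) p = itC c i p := by
  induction i generalizing p with
  | zero => simp [itC_zero]
  | succ i ih =>
    rw [pow_succ, map_mul, Equiv.Perm.mul_apply, hV p hp, itC_succ]
    have : lkC c p < N := by rw [← hV p hp]; exact phi_lt _ hp
    exact ih this

/-- the images of the first `k` base points -/
def tup (bsF : ℕ → ℕ) (k : ℕ) (g : G) : List ℕ := (List.range k).map fun m => phi g (bsF m)

theorem tup_succ (bsF : ℕ → ℕ) (k : ℕ) (g : G) :
    tup bsF (k + 1) g = tup bsF k g ++ [phi g (bsF k)] := by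
  simp [tup, List.range_succ]

theorem tup_length (bsF : ℕ → ℕ) (k : ℕ) (g : G) : (tup bsF k g).length = k := by simp [tup]

theorem tup_getD (bsF : ℕ → ℕ) {k m : ℕ} (g : G) (h : m < k) :
    (tup bsF k g).getD m 0 = phi g (bsF m) := by
  simp [tup, List.getD_eq_getElem?_getD, h]

/-- the tests `(m, i, val)`: `r3 p (V^i t_m) = val` -/
def cons (c : ℕ) (tests : List (ℕ × ℕ × ℕ)) (t : List ℕ) (p : ℕ) : Bool :=
  List.rec (motive := fun _ => Bool) true
    (fun tst _ ih => cond (Nat.beq (r3 p (itC c tst.2.1 (t.getD tst.1 0))) tst.2.2) ih false) tests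

theorem cons_cons (c : ℕ) (tst : ℕ × ℕ × ℕ) (tests : List (ℕ × ℕ × ℕ)) (t : List ℕ) (p : ℕ) :
    cons c (tst :: tests) t p =
      cond (Nat.beq (r3 p (itC c tst.2.1 (t.getD tst.1 0))) tst.2.2) (cons c tests t p) false := rfl

theorem cons_true {c : ℕ} {tests : List (ℕ × ℕ × ℕ)} {t : List ℕ} {p : ℕ}
    (h : ∀ tst ∈ tests, r3 p (itC c tst.2.1 (t.getD tst.1 0)) = tst.2.2) :
    cons c tests t p = true := by
  induction tests with
  | nil => rfl
  | cons tst tests ih =>
    rw [cons_cons, TCG.nbeq.mpr (h tst (List.mem_cons_self ..))]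
    exact ih (fun x hx => h x (List.mem_cons_of_mem _ hx))

/-- the values of the tests at the base itself -/
def valsOK (bsF : ℕ → ℕ) (c : ℕ) (tests : List (ℕ × ℕ × ℕ)) (k : ℕ) : Bool :=
  tests.all fun tst => Nat.ble tst.1 k && Nat.beq (r3 (bsF k) (itC c tst.2.1 (bsF tst.1))) tst.2.2

def eqL : List ℕ → List ℕ → Bool
  | [], [] => true
  | a :: as, b :: bs => Nat.beq a b && eqL as bs
  | _, _ => false

theorem eqL_iff (a b : List ℕ) : eqL a b = true ↔ a = b := by
  induction a generalizing b with
  | nil => cases b <;> simp [eqL]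
  | cons x a ih =>
    cases b with
    | nil => simp [eqL]
    | cons y b => simp [eqL, ih, TCG.nbeq]

def memLL (L : List (List ℕ)) (t : List ℕ) : Bool :=
  List.rec (motive := fun _ => Bool) false (fun a _ ih => cond (eqL a t) true ih) L

theorem memLL_iff (L : List (List ℕ)) (t : List ℕ) : memLL L t = true ↔ t ∈ L := by
  induction L with
  | nil => simp [memLL]
  | cons a L ih =>
    show cond (eqL a t) true (memLL L t) = true ↔ _
    cases h : eqL a t
    · simp only [cond_false, List.mem_cons]
      rw [ih]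
      have : ¬ t = a := fun e => by
        rw [e] at h
        have := (eqL_iff a a).mpr rfl
        rw [h] at this
        exact Bool.false_ne_true this
      tauto
    · simp only [cond_true, List.mem_cons, true_iff]
      exact Or.inl ((eqL_iff a t).mp h).symm

def allL {α : Type} (L : List α) (f : α → Bool) : Bool :=
  List.rec (motive := fun _ => Bool) true (fun a _ ih => cond (f a) ih false) L

theorem allL_iff {α : Type} (L : List α) (f : α → Bool) : allL L f = true ↔ ∀ a ∈ L, f a = true := by
  induction L with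
  | nil => simp [allL]
  | cons a L ih =>
    show cond (f a) (allL L f) false = true ↔ _
    cases h : f a
    · simp [h]
    · simp [h, ih]

/-- the check of one level -/
def chkLevel (c : ℕ) (tests : List (ℕ × ℕ × ℕ)) (Lprev Lnext : List (List ℕ)) : Bool :=
  allL Lprev fun t => TCG.allD 1782 fun p =>
    cond (cons c tests (t ++ [p]) p) (memLL Lnext (t ++ [p])) true

theorem level_step {bsF : ℕ → ℕ} (hbs : ∀ m, bsF m < N) {c : ℕ} {V : G}
    (hV : ∀ p, p < N → phi V p = lkC c p)
    {tests : List (ℕ × ℕ × ℕ)} {k : ℕ} (hvals : valsOK bsF c tests k = true)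
    {Lprev Lnext : List (List ℕ)} (hchk : chkLevel c tests Lprev Lnext = true)
    {g : G} (hg : g * V = V * g) (hprev : tup bsF k g ∈ Lprev) : tup bsF (k + 1) g ∈ Lnext := by
  have hp : phi g (bsF k) < N := phi_lt g (hbs k)
  have h1 := (TCG.allD_iff _ _).mp ((allL_iff _ _).mp hchk _ hprev) _ hp
  rw [tup_succ]
  have hc : cons c tests (tup bsF k g ++ [phi g (bsF k)]) (phi g (bsF k)) = true := by
    apply cons_true
    intro tst htst
    simp only [valsOK, List.all_eq_true, Bool.and_eq_true, Nat.ble_eq] at hvals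
    obtain ⟨hm, hval⟩ := hvals tst htst
    have hget : (tup bsF k g ++ [phi g (bsF k)]).getD tst.1 0 = phi g (bsF tst.1) := by
      rw [← tup_succ]
      exact tup_getD bsF g (Nat.lt_succ_of_le hm)
    rw [hget]
    have hcomm : ∀ i : ℕ, g * V ^ i = V ^ i * g := by
      intro i
      have h := Commute.pow_right (show Commute g V from hg) i
      exact h.eq
    have e1 : itC c tst.2.1 (phi g (bsF tst.1)) = phi g (itC c tst.2.1 (bsF tst.1)) := by
      rw [← phi_pow_of_col hV _ (phi_lt g (hbs _)), ← phi_pow_of_col hV _ (hbs _),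
        ← Equiv.Perm.mul_apply, ← Equiv.Perm.mul_apply, ← map_mul, ← map_mul, hcomm]
    rw [e1]
    have hlt : itC c tst.2.1 (bsF tst.1) < N := by
      rw [← phi_pow_of_col hV _ (hbs _)]
      exact phi_lt _ (hbs _)
    rw [r3_inv g (hbs k) hlt]
    exact TCG.nbeq.mp hval
  rw [hc] at h1
  exact (memLL_iff _ _).mp h1

theorem tup_inj {bsF : ℕ → ℕ} (hcov : ∀ b ∈ [7, 125, 79, 47, 0], ∃ m, m < 5 ∧ bsF m = b) {g g' : G}
    (h : tup bsF 5 g = tup bsF 5 g') : g = g' := by
  have key : ∀ m, m < 5 → phi g (bsF m) = phi g' (bsF m) := by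
    intro m hm
    rw [← tup_getD bsF g hm, ← tup_getD bsF g' hm, h]
  have h1 : g'⁻¹ * g = 1 := by
    apply eq_one_of_fix
    intro b hb
    rw [map_mul, Equiv.Perm.mul_apply, map_inv, Equiv.Perm.inv_eq_iff_eq]
    obtain ⟨m, hm, rfl⟩ := hcov b hb
    exact key m hm
  calc g = g' * (g'⁻¹ * g) := by group
    _ = g' := by rw [h1, mul_one]

theorem card_centralizer_le {bsF : ℕ → ℕ} (hcov : ∀ b ∈ [7, 125, 79, 47, 0], ∃ m, m < 5 ∧ bsF m = b)
    (V : G) (L5 : List (List ℕ)) (h : ∀ g : G, g * V = V * g → tup bsF 5 g ∈ L5) :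
    Nat.card (Subgroup.centralizer ({V} : Set G)) ≤ L5.length := by
  classical
  have hmem : ∀ g : Subgroup.centralizer ({V} : Set G), tup bsF 5 (g : G) ∈ L5.toFinset := by
    intro g
    rw [List.mem_toFinset]
    apply h
    have := g.2
    rw [Subgroup.mem_centralizer_iff] at this
    exact (this V (Set.mem_singleton _)).symm
  let f : Subgroup.centralizer ({V} : Set G) → L5.toFinset := fun g => ⟨tup bsF 5 (g : G), hmem g⟩
  have hf : Function.Injective f := by
    intro a b hab
    have : tup bsF 5 (a : G) = tup bsF 5 (b : G) := congrArg Subtype.val hab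
    exact Subtype.ext (tup_inj hcov this)
  calc Nat.card (Subgroup.centralizer ({V} : Set G)) ≤ Nat.card L5.toFinset :=
        Nat.card_le_card_of_injective f hf
    _ = L5.toFinset.card := Nat.card_eq_card_toFinset _ |>.trans (by simp)
    _ ≤ L5.length := List.toFinset_card_le L5

end Cfsg.Agent.Helper17.SuzOut
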