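import Cfsg.Agent.Helper17.SuzOut.CentU13K0

/-! Base-image search certificate for the centralizer of `U13` (generated). -/

set_option autoImplicit false
set_option linter.all false
set_option maxRecDepth 100000
set_option maxHeartbeats 0

noncomputable section

namespace Cfsg.Agent.Helper17.SuzOut

open Cfsg.Spor Cfsg.Agent.Helper17.SuzTC Cfsg.Agent.Helper17.SuzOrd

/-- the element -/
def U13 : G := prodw u13W

theorem phi_U13 : ∀ p, p < N → phi U13 p = lkC u13C p := fun p hp => phi_of_chkCol u13C_ok hp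

theorem u13B_lt (m : ℕ) : u13B m < N := by
  unfold u13B
  split <;> decide

theorem u13B_cov : ∀ b ∈ [7, 125, 79, 47, 0], ∃ m, m < 5 ∧ u13B m = b := by
  intro b hb
  simp only [List.mem_cons, List.mem_singleton, List.not_mem_nil, or_false] at hb
  rcases hb with rfl | rfl | rfl | rfl | rfl
  all_goals first
    | exact ⟨0, by norm_num, rfl⟩
    | exact ⟨1, by norm_num, rfl⟩
    | exact ⟨2, by norm_num, rfl⟩
    | exact ⟨3, by norm_num, rfl⟩
    | exact ⟨4, by norm_num, rfl⟩

theorem u13S0 {g : G} (hg : g * U13 = U13 * g) : tup u13B 1 g ∈ u13L1 := by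
  have h0 : tup u13B 0 g ∈ [([] : List ℕ)] := by simp [tup]
  exact level_step u13B_lt phi_U13 u13V0 u13K0_0 hg h0

theorem u13S1 {g : G} (hg : g * U13 = U13 * g) : tup u13B 2 g ∈ u13L2 := by
  have h := u13S0 hg
  simp only [u13L1, List.mem_append] at h
  exact level_step u13B_lt phi_U13 u13V1 u13K1_0 hg h

theorem u13S2 {g : G} (hg : g * U13 = U13 * g) : tup u13B 3 g ∈ u13L3 := by
  have h := u13S1 hg
  simp only [u13L2, List.mem_append] at h
  rcases h with h | h
  · exact level_step u13B_lt phi_U13 u13V2 u13K2_0 hg h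
  · exact level_step u13B_lt phi_U13 u13V2 u13K2_1 hg h

theorem u13S3 {g : G} (hg : g * U13 = U13 * g) : tup u13B 4 g ∈ u13L4 := by
  have h := u13S2 hg
  simp only [u13L3, List.mem_append] at h
  rcases h with h | h
  · exact level_step u13B_lt phi_U13 u13V3 u13K3_0 hg h
  · exact level_step u13B_lt phi_U13 u13V3 u13K3_1 hg h

theorem u13S4 {g : G} (hg : g * U13 = U13 * g) : tup u13B 5 g ∈ u13L5 := by
  have h := u13S3 hg
  simp only [u13L4, List.mem_append] at h
  exact level_step u13B_lt phi_U13 u13V4 u13K4_0 hg h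

theorem card_cent_U13 : Nat.card (Subgroup.centralizer ({U13} : Set G)) ≤ 13 :=
  (card_centralizer_le u13B_cov U13 u13L5 (fun g hg => u13S4 hg)).trans (by decide)

end Cfsg.Agent.Helper17.SuzOut
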