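import Cfsg.Agent.Helper17.SuzOut.CentU13Data

/-! Base-image search certificate for the centralizer of `U13` (generated). -/

set_option autoImplicit false
set_option linter.all false
set_option maxRecDepth 100000
set_option maxHeartbeats 0

noncomputable section

namespace Cfsg.Agent.Helper17.SuzOut

open Cfsg.Spor Cfsg.Agent.Helper17.SuzTC Cfsg.Agent.Helper17.SuzOrd

theorem u13K0_0 : chkLevel u13C u13T0 [([] : List ℕ)] u13L1 = true := by decide +kernel

theorem u13K1_0 : chkLevel u13C u13T1 u13L1_0 u13L2 = true := by decide +kernel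

theorem u13K2_0 : chkLevel u13C u13T2 u13L2_0 u13L3 = true := by decide +kernel

theorem u13K2_1 : chkLevel u13C u13T2 u13L2_1 u13L3 = true := by decide +kernel

theorem u13K3_0 : chkLevel u13C u13T3 u13L3_0 u13L4 = true := by decide +kernel

theorem u13K3_1 : chkLevel u13C u13T3 u13L3_1 u13L4 = true := by decide +kernel

theorem u13K4_0 : chkLevel u13C u13T4 u13L4_0 u13L5 = true := by decide +kernel


end Cfsg.Agent.Helper17.SuzOut
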