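import Cfsg.Agent.Helper17.SuzOut.CentV7Data

/-! Base-image search certificate for the centralizer of `V7` (generated). -/

set_option autoImplicit false
set_option linter.all false
set_option maxRecDepth 100000
set_option maxHeartbeats 0

noncomputable section

namespace Cfsg.Agent.Helper17.SuzOut

open Cfsg.Spor Cfsg.Agent.Helper17.SuzTC Cfsg.Agent.Helper17.SuzOrd

theorem v7K2_0 : chkLevel v7C v7T2 v7L2_0 v7L3 = true := by decide +kernel

theorem v7K2_1 : chkLevel v7C v7T2 v7L2_1 v7L3 = true := by decide +kernel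

theorem v7K2_2 : chkLevel v7C v7T2 v7L2_2 v7L3 = true := by decide +kernel

theorem v7K2_3 : chkLevel v7C v7T2 v7L2_3 v7L3 = true := by decide +kernel

theorem v7K2_4 : chkLevel v7C v7T2 v7L2_4 v7L3 = true := by decide +kernel

theorem v7K3_0 : chkLevel v7C v7T3 v7L3_0 v7L4 = true := by decide +kernel

theorem v7K3_1 : chkLevel v7C v7T3 v7L3_1 v7L4 = true := by decide +kernel

theorem v7K3_2 : chkLevel v7C v7T3 v7L3_2 v7L4 = true := by decide +kernel


end Cfsg.Agent.Helper17.SuzOut
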