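import Cfsg.Agent.Helper17.SuzOut.CentV7K0
import Cfsg.Agent.Helper17.SuzOut.CentV7K1
import Cfsg.Agent.Helper17.SuzOut.CentV7K2
import Cfsg.Agent.Helper17.SuzOut.CentV7K3

/-! Base-image search certificate for the centralizer of `V7` (generated). -/

set_option autoImplicit false
set_option linter.all false
set_option maxRecDepth 100000
set_option maxHeartbeats 0

noncomputable section

namespace Cfsg.Agent.Helper17.SuzOut

open Cfsg.Spor Cfsg.Agent.Helper17.SuzTC Cfsg.Agent.Helper17.SuzOrd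

/-- the element -/
def V7 : G := prodw v7W

theorem phi_V7 : ∀ p, p < N → phi V7 p = lkC v7C p := fun p hp => phi_of_chkCol v7C_ok hp

theorem v7B_lt (m : ℕ) : v7B m < N := by
  unfold v7B
  split <;> decide

theorem v7B_cov : ∀ b ∈ [7, 125, 79, 47, 0], ∃ m, m < 5 ∧ v7B m = b := by
  intro b hb
  simp only [List.mem_cons, List.mem_singleton, List.not_mem_nil, or_false] at hb
  rcases hb with rfl | rfl | rfl | rfl | rfl
  all_goals first
    | exact ⟨0, by norm_num, rfl⟩
    | exact ⟨1, by norm_num, rfl⟩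
    | exact ⟨2, by norm_num, rfl⟩
    | exact ⟨3, by norm_num, rfl⟩
    | exact ⟨4, by norm_num, rfl⟩

theorem v7S0 {g : G} (hg : g * V7 = V7 * g) : tup v7B 1 g ∈ v7L1 := by
  have h0 : tup v7B 0 g ∈ [([] : List ℕ)] := by simp [tup]
  exact level_step v7B_lt phi_V7 v7V0 v7K0_0 hg h0

theorem v7S1 {g : G} (hg : g * V7 = V7 * g) : tup v7B 2 g ∈ v7L2 := by
  have h := v7S0 hg
  simp only [v7L1, List.mem_append, or_assoc] at h
  rcases h with h | h | h | h | h | h | h
  · exact level_step v7B_lt phi_V7 v7V1 v7K1_0 hg h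
  · exact level_step v7B_lt phi_V7 v7V1 v7K1_1 hg h
  · exact level_step v7B_lt phi_V7 v7V1 v7K1_2 hg h
  · exact level_step v7B_lt phi_V7 v7V1 v7K1_3 hg h
  · exact level_step v7B_lt phi_V7 v7V1 v7K1_4 hg h
  · exact level_step v7B_lt phi_V7 v7V1 v7K1_5 hg h
  · exact level_step v7B_lt phi_V7 v7V1 v7K1_6 hg h

theorem v7S2 {g : G} (hg : g * V7 = V7 * g) : tup v7B 3 g ∈ v7L3 := by
  have h := v7S1 hg
  simp only [v7L2, List.mem_append, or_assoc] at h
  rcases h with h | h | h | h | h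
  · exact level_step v7B_lt phi_V7 v7V2 v7K2_0 hg h
  · exact level_step v7B_lt phi_V7 v7V2 v7K2_1 hg h
  · exact level_step v7B_lt phi_V7 v7V2 v7K2_2 hg h
  · exact level_step v7B_lt phi_V7 v7V2 v7K2_3 hg h
  · exact level_step v7B_lt phi_V7 v7V2 v7K2_4 hg h

theorem v7S3 {g : G} (hg : g * V7 = V7 * g) : tup v7B 4 g ∈ v7L4 := by
  have h := v7S2 hg
  simp only [v7L3, List.mem_append, or_assoc] at h
  rcases h with h | h | h | h | h
  · exact level_step v7B_lt phi_V7 v7V3 v7K3_0 hg h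
  · exact level_step v7B_lt phi_V7 v7V3 v7K3_1 hg h
  · exact level_step v7B_lt phi_V7 v7V3 v7K3_2 hg h
  · exact level_step v7B_lt phi_V7 v7V3 v7K3_3 hg h
  · exact level_step v7B_lt phi_V7 v7V3 v7K3_4 hg h

theorem v7S4 {g : G} (hg : g * V7 = V7 * g) : tup v7B 5 g ∈ v7L5 := by
  have h := v7S3 hg
  simp only [v7L4, List.mem_append, or_assoc] at h
  rcases h with h | h | h | h | h | h | h | h | h | h | h | h | h | h
  · exact level_step v7B_lt phi_V7 v7V4 v7K4_0 hg h
  · exact level_step v7B_lt phi_V7 v7V4 v7K4_1 hg h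
  · exact level_step v7B_lt phi_V7 v7V4 v7K4_2 hg h
  · exact level_step v7B_lt phi_V7 v7V4 v7K4_3 hg h
  · exact level_step v7B_lt phi_V7 v7V4 v7K4_4 hg h
  · exact level_step v7B_lt phi_V7 v7V4 v7K4_5 hg h
  · exact level_step v7B_lt phi_V7 v7V4 v7K4_6 hg h
  · exact level_step v7B_lt phi_V7 v7V4 v7K4_7 hg h
  · exact level_step v7B_lt phi_V7 v7V4 v7K4_8 hg h
  · exact level_step v7B_lt phi_V7 v7V4 v7K4_9 hg h
  · exact level_step v7B_lt phi_V7 v7V4 v7K4_10 hg h
  · exact level_step v7B_lt phi_V7 v7V4 v7K4_11 hg h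
  · exact level_step v7B_lt phi_V7 v7V4 v7K4_12 hg h
  · exact level_step v7B_lt phi_V7 v7V4 v7K4_13 hg h

theorem card_cent_V7 : Nat.card (Subgroup.centralizer ({V7} : Set G)) ≤ 168 :=
  (card_centralizer_le v7B_cov V7 v7L5 (fun g hg => v7S4 hg)).trans (by decide)

end Cfsg.Agent.Helper17.SuzOut
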