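import Cfsg.Agent.Helper17.SuzOut.CentU13
import Cfsg.Agent.Helper17.SuzOut.CentV7
import Cfsg.Agent.Helper28.S2074CLS3

/-! The elements `zG` (class 3A), `U13`, `Nn` (normalizing `⟨U13⟩`), `V7`, `T1`, `T2` of `Suz`:
orders, relations, centralizers; the class of `zG` is invariant under automorphisms. -/

set_option autoImplicit false
set_option linter.all false
set_option maxRecDepth 100000

noncomputable section

namespace Cfsg.Agent.Helper17.SuzOut

open Cfsg.Spor Cfsg.Agent.Helper17.SuzTC Cfsg.Agent.Helper17.SuzOrd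

def zW : List ℕ := [0, 1, 0, 1, 2, 1, 0, 3, 2, 1, 0, 1, 2, 3, 2, 1, 3, 2, 3]

def nW : List ℕ := [1, 2, 1, 3, 2, 1, 0, 5, 1, 2, 3, 4, 3, 2, 1, 5, 1, 2, 3, 2, 1, 0, 5, 1, 0, 1, 5, 2, 1, 0, 1, 0, 1, 2, 3, 0, 1, 2, 3, 0, 1, 2, 3, 2, 5, 1, 2, 3, 4, 3, 2]

def t1W : List ℕ := [1, 2, 1, 0, 1, 2, 5, 1, 0, 1, 5, 0, 1, 2, 3, 2, 1, 5, 1, 2, 3, 4, 3, 2, 1, 5, 0, 1, 2, 3, 1, 2, 0, 1, 2, 3, 2, 1, 5, 1, 2, 3, 4, 3, 2, 1, 5, 0, 1, 2, 3, 5, 1, 0, 1, 5, 3, 0, 1, 2, 3, 5, 1, 2, 3, 4, 3, 2, 1, 5, 0, 4, 3, 2, 1, 3, 2, 4, 6, 1, 2, 3, 2, 1, 0, 4, 5, 1, 2, 6, 1]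

def t2W : List ℕ := [1, 2, 1, 3, 2, 1, 0, 5, 1, 2, 3, 4, 3, 2, 1, 5, 1, 2, 3, 2, 1, 0, 5, 1, 0, 1, 5, 2, 1, 0, 3, 2, 1, 0, 5, 1, 2, 3, 4, 3, 2, 1, 5, 1, 2, 3, 2, 1, 0, 5, 1, 0, 1, 5, 2, 1, 0, 3, 2, 1, 0, 5, 1, 2, 3, 4, 3, 2, 1, 5, 1, 2, 3, 2, 1, 0, 5, 1, 0, 1, 5, 2, 1, 0, 1, 2, 1, 2, 1, 0, 1, 2, 5, 1, 0, 1, 5, 0, 1, 2, 3, 2, 1, 5, 1, 2, 3, 4, 3, 2, 1, 5, 0, 1, 2, 3, 0, 1, 2, 5, 1, 0, 1, 5, 0, 1, 2, 3, 2, 1, 5, 1, 2, 3, 4, 3, 2, 1, 5, 0, 1, 2, 3, 0, 1, 2, 5, 1, 0, 1, 5, 0, 1, 2, 3, 2, 1, 5, 1, 2, 3, 4, 3, 2, 1, 5, 0, 1, 2, 3, 1, 2, 1, 2, 0, 1, 2, 5, 1, 0, 1, 5, 0, 1, 2, 3, 2, 1, 5, 1, 2, 3, 4, 3, 2, 1, 5, 0, 1, 2, 3, 0, 1, 2, 3, 0, 1, 2, 3, 0, 1, 2, 3, 2, 3, 5, 1, 0, 1, 5, 2, 0, 4, 3, 2, 1, 0, 5, 1, 0, 6, 1, 2, 3, 2, 1, 4, 3, 2, 1, 3, 5, 6, 1, 0, 2, 1]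

def zG : G := prodw zW

def Nn : G := prodw nW

def T1 : G := prodw t1W

def T2 : G := prodw t2W

theorem ltW {w : List ℕ} (h : (w.all fun l => decide (l < nl)) = true) : ∀ l ∈ w, l < nl := by
  simpa using h

/-- a word moving a point is not the identity -/
theorem prodw_ne_one {w : List ℕ} (p : ℕ) (h1 : (w.all fun l => decide (l < nl)) = true)
    (h2 : Nat.beq (evalw w p) p = false) : prodw w ≠ 1 := by
  intro h
  have h3 : phi (prodw w) p = p := by rw [h, map_one, Equiv.Perm.one_apply]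
  rw [phi_prodw_apply _ (ltW h1)] at h3
  rw [h3, Nat.beq_refl] at h2
  exact Bool.noConfusion h2

theorem orderOf_prodw {w : List ℕ} (q : ℕ) [hq : Fact q.Prime] (p : ℕ)
    (h0 : chkBase (List.replicate q w).flatten = true)
    (h1 : (w.all fun l => decide (l < nl)) = true)
    (h2 : Nat.beq (evalw w p) p = false) : orderOf (prodw w) = q := by
  apply orderOf_eq_prime
  · rw [← prodw_replicate]; exact prodw_eq_one h0
  · exact prodw_ne_one p h1 h2

instance fact3 : Fact (Nat.Prime 3) := ⟨by norm_num⟩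
instance fact7 : Fact (Nat.Prime 7) := ⟨by norm_num⟩
instance fact13 : Fact (Nat.Prime 13) := ⟨by norm_num⟩

theorem orderOf_zG : orderOf zG = 3 :=
  orderOf_prodw 3 14 (by decide +kernel) (by decide +kernel) (by decide +kernel)

theorem orderOf_U13 : orderOf U13 = 13 :=
  orderOf_prodw 13 1 (by decide +kernel) (by decide +kernel) (by decide +kernel)

theorem orderOf_V7 : orderOf V7 = 7 :=
  orderOf_prodw 7 1 (by decide +kernel) (by decide +kernel) (by decide +kernel)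

theorem orderOf_T1 : orderOf T1 = 2 :=
  orderOf_prodw 2 0 (by decide +kernel) (by decide +kernel) (by decide +kernel)

theorem orderOf_T2 : orderOf T2 = 2 :=
  orderOf_prodw 2 0 (by decide +kernel) (by decide +kernel) (by decide +kernel)

/-- commutation of two words -/
theorem comm_of_chk {u v : List ℕ} (h : chkBase ((v ++ u) ++ (u ++ v).reverse) = true) :
    prodw u * prodw v = prodw v * prodw u := by
  have := prodw_eq_of_chk h
  rwa [prodw_append, prodw_append] at this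

theorem zG_comm_V7 : zG * V7 = V7 * zG := comm_of_chk (by decide +kernel)

theorem T1_comm_T2 : T1 * T2 = T2 * T1 := comm_of_chk (by decide +kernel)

theorem T1_comm_V7 : T1 * V7 = V7 * T1 := comm_of_chk (by decide +kernel)

theorem T2_comm_V7 : T2 * V7 = V7 * T2 := comm_of_chk (by decide +kernel)

theorem T1_ne_T2 : T1 ≠ T2 := by
  intro h
  have h1 : phi T1 0 = phi T2 0 := by rw [h]
  rw [T1, T2, phi_prodw_apply _ (ltW (by decide +kernel)),
    phi_prodw_apply _ (ltW (by decide +kernel))] at h1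
  revert h1
  decide +kernel

theorem Nn_conj : Nn * U13 * Nn⁻¹ = U13 ^ 4 := by
  have h : prodw (nW.reverse ++ (u13W ++ nW)) = prodw (List.replicate 4 u13W).flatten :=
    prodw_eq_of_chk (by decide +kernel)
  rw [prodw_append, prodw_append, prodw_reverse, prodw_replicate] at h
  rw [Nn, U13]
  exact h

/-! ### orders and centralizers -/

theorem card_G13 : Nat.card G = 13 * 34488115200 := by rw [card_G]

theorem card_G7 : Nat.card G = 7 * 64049356800 := by rw [card_G]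

theorem cent_U13 : ∀ c : G, c * U13 = U13 * c → c ∈ Subgroup.zpowers U13 := by
  haveI := finG
  intro c hc
  have hle : Subgroup.zpowers U13 ≤ Subgroup.centralizer ({U13} : Set G) := by
    rw [Subgroup.zpowers_le, Subgroup.mem_centralizer_iff]
    intro y hy
    rw [Set.mem_singleton_iff] at hy
    rw [hy]
  have hcard : Nat.card (Subgroup.centralizer ({U13} : Set G)) ≤
      Nat.card (Subgroup.zpowers U13) := by
    rw [Nat.card_zpowers, orderOf_U13]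
    exact card_cent_U13
  have heq := Subgroup.eq_of_le_of_card_ge hle hcard
  rw [heq, Subgroup.mem_centralizer_iff]
  intro y hy
  rw [Set.mem_singleton_iff] at hy
  rw [hy]
  exact hc.symm

/-- the class of `zG` is invariant under automorphisms (up to inversion) -/
theorem hinvz : ∀ φ : MulAut G, ∃ c : G, φ zG = c * zG * c⁻¹ ∨ φ zG = c * zG⁻¹ * c⁻¹ := by
  haveI := finG
  exact class_invariant_of_centralizer 64049356800 card_G7 (by norm_num) V7 zG T1 T2 orderOf_V7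
    orderOf_zG zG_comm_V7 orderOf_T1 orderOf_T2 T1_ne_T2 T1_comm_T2 T1_comm_V7 T2_comm_V7
    (lt_of_le_of_lt card_cent_V7 (by norm_num))

/-! ### the conjugates `U'`, `N'` of `U13`, `Nn` -/

def cW : List ℕ := [4, 3, 2, 1, 6]

def Cc : G := prodw cW

def uW' : List ℕ := cW ++ (u13W ++ cW.reverse)

def nW' : List ℕ := cW ++ (nW ++ cW.reverse)

def U' : G := Cc⁻¹ * U13 * Cc

def N' : G := Cc⁻¹ * Nn * Cc

theorem U'_eq : U' = prodw uW' := by
  rw [uW', prodw_append, prodw_append, prodw_reverse, U', U13, Cc, mul_assoc]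

theorem N'_eq : N' = prodw nW' := by
  rw [nW', prodw_append, prodw_append, prodw_reverse, N', Nn, Cc, mul_assoc]

theorem U'_pow (k : ℕ) : U' ^ k = Cc⁻¹ * U13 ^ k * Cc := by
  induction k with
  | zero => simp
  | succ k ih => rw [pow_succ, ih, pow_succ, U']; group

theorem orderOf_U' : orderOf U' = 13 := by
  rw [U'_eq]
  exact orderOf_prodw 13 0 (by decide +kernel) (by decide +kernel) (by decide +kernel)

theorem N'_conj : N' * U' * N'⁻¹ = U' ^ 4 := by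
  rw [U'_pow, ← Nn_conj, N', U']
  group

theorem cent_U' : ∀ c : G, c * U' = U' * c → c ∈ Subgroup.zpowers U' := by
  intro c hc
  have h1 : (Cc * c * Cc⁻¹) * U13 = U13 * (Cc * c * Cc⁻¹) := by
    have e1 : (Cc * c * Cc⁻¹) * U13 = Cc * (c * U') * Cc⁻¹ := by rw [U']; group
    have e2 : U13 * (Cc * c * Cc⁻¹) = Cc * (U' * c) * Cc⁻¹ := by rw [U']; group
    rw [e1, e2, hc]
  obtain ⟨k, hk⟩ := Subgroup.mem_zpowers_iff.mp (cent_U13 _ h1)
  refine Subgroup.mem_zpowers_iff.mpr ⟨k, ?_⟩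
  have e3 : U' ^ k = Cc⁻¹ * U13 ^ k * Cc := by
    rw [U']
    have : Cc⁻¹ * U13 * Cc = (MulAut.conj Cc⁻¹) U13 := by simp [MulAut.conj_apply]
    rw [this, ← map_zpow]
    simp [MulAut.conj_apply]
  rw [e3, hk]
  group

/-! ### the sign -/

def sgnW : List ℕ := (List.replicate 9 ((List.replicate 5 uW').flatten ++ zW)).flatten

def sgnW' : List ℕ := (List.replicate 9 ((List.replicate 5 uW').flatten ++ zW.reverse)).flatten

theorem sgn_pos : (zG * U' ^ 5) ^ 9 = 1 := by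
  have h : prodw sgnW = 1 := prodw_eq_one (by decide +kernel)
  rwa [sgnW, prodw_replicate, prodw_append, prodw_replicate, ← U'_eq] at h

theorem sgn_neg : (zG⁻¹ * U' ^ 5) ^ 9 ≠ 1 := by
  have h : prodw sgnW' ≠ 1 := prodw_ne_one 0 (by decide +kernel) (by decide +kernel)
  rwa [sgnW', prodw_replicate, prodw_append, prodw_replicate, prodw_reverse, ← U'_eq] at h

theorem hsign : ∀ ψ : MulAut G, ψ U' = U' → ψ zG ≠ zG⁻¹ := by
  intro ψ hu hz
  have h := congrArg ψ sgn_pos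
  rw [map_pow, map_mul, map_pow, hu, hz, map_one] at h
  exact sgn_neg h

end Cfsg.Agent.Helper17.SuzOut
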