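import Cfsg.Agent.Helper17.SuzOut.Elts

/-! `Suz` is generated by `zG` and `U'`. -/

set_option autoImplicit false
set_option linter.all false
set_option maxRecDepth 100000

noncomputable section

namespace Cfsg.Agent.Helper17.SuzOut

open Cfsg.Spor Cfsg.Agent.Helper17.SuzTC Cfsg.Agent.Helper17.SuzOrd

/-- the blocks: `zG`, `U'`, `U'⁻¹`, `zG⁻¹` -/
def blk : ℕ → List ℕ
  | 0 => zW
  | 1 => uW'
  | 2 => uW'.reverse
  | _ => zW.reverse

def expand (bl : List ℕ) : List ℕ :=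
  List.rec (motive := fun _ => List ℕ) [] (fun b _ ih => blk b ++ ih) bl

theorem expand_cons (b : ℕ) (bl : List ℕ) : expand (b :: bl) = blk b ++ expand bl := rfl

theorem zG_mem : zG ∈ Subgroup.closure ({zG, U'} : Set G) :=
  Subgroup.subset_closure (Set.mem_insert _ _)

theorem U'_mem : U' ∈ Subgroup.closure ({zG, U'} : Set G) :=
  Subgroup.subset_closure (Set.mem_insert_of_mem _ (Set.mem_singleton _))

theorem prodw_blk_mem (b : ℕ) : prodw (blk b) ∈ Subgroup.closure ({zG, U'} : Set G) := by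
  rcases b with _ | _ | _ | b
  · exact zG_mem
  · show prodw uW' ∈ _
    rw [← U'_eq]; exact U'_mem
  · show prodw uW'.reverse ∈ _
    rw [prodw_reverse, ← U'_eq]; exact Subgroup.inv_mem _ U'_mem
  · show prodw zW.reverse ∈ _
    rw [prodw_reverse]; exact Subgroup.inv_mem _ zG_mem

theorem prodw_expand_mem (bl : List ℕ) :
    prodw (expand bl) ∈ Subgroup.closure ({zG, U'} : Set G) := by
  induction bl with
  | nil => exact Subgroup.one_mem _
  | cons b bl ih =>
    rw [expand_cons, prodw_append]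
    exact Subgroup.mul_mem _ ih (prodw_blk_mem b)

/-- block words: the letters `0, 2, 3, 4, 6` directly, the letters `1, 5` after the letter `0` -/
def genB : List (List ℕ) := [[1, 1, 0, 2, 2, 0, 2, 3, 1, 1, 0, 2, 0, 2, 2, 2, 0, 2, 3, 1, 0, 1, 1, 1, 1, 1, 3], [1, 0, 2, 2, 0, 2, 3, 1, 3, 1, 3, 1, 1, 3, 1, 1, 3, 1, 0, 1, 0, 2, 3, 2, 0, 1, 3, 1, 1], [2, 2, 2, 2, 2, 0, 2, 3, 1, 1, 0, 2, 3, 2, 3, 1, 1, 1, 0, 2, 2, 3, 2, 0, 1, 0, 1, 0, 2, 3], [2, 3, 1, 1, 1, 0, 1, 3, 2, 3, 2, 2, 3, 2, 0, 1, 3, 1, 1, 0, 1, 0, 2, 3, 2, 2], [1, 1, 3, 1, 3, 1, 3, 1, 3, 2, 0, 2, 0, 2, 3, 2, 2, 0, 1, 1, 3, 2, 2, 0], [0, 1, 3, 2, 2, 0, 1, 0, 2, 3, 2, 2, 0, 1, 0, 1, 1, 1, 1, 0, 1, 3, 1, 0, 2, 2], [2, 0, 1, 0, 1, 1, 0, 2, 2, 0, 1, 0, 2, 0, 2, 2, 2, 0, 2, 3, 1, 0, 1, 1, 1, 1, 0, 1]]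

theorem gen0 : prodw [0] = prodw (expand (genB.getD 0 [])) := prodw_eq_of_chk (by decide +kernel)
theorem gen1 : prodw [0, 1] = prodw (expand (genB.getD 1 [])) := prodw_eq_of_chk (by decide +kernel)
theorem gen2 : prodw [2] = prodw (expand (genB.getD 2 [])) := prodw_eq_of_chk (by decide +kernel)
theorem gen3 : prodw [3] = prodw (expand (genB.getD 3 [])) := prodw_eq_of_chk (by decide +kernel)
theorem gen4 : prodw [4] = prodw (expand (genB.getD 4 [])) := prodw_eq_of_chk (by decide +kernel)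
theorem gen5 : prodw [0, 5] = prodw (expand (genB.getD 5 [])) := prodw_eq_of_chk (by decide +kernel)
theorem gen6 : prodw [6] = prodw (expand (genB.getD 6 [])) := prodw_eq_of_chk (by decide +kernel)

theorem prodw_single (l : ℕ) : prodw [l] = gG l := by simp [prodw]

theorem prodw_pair (k l : ℕ) : prodw [k, l] = gG l * gG k := by
  have : [k, l] = [k] ++ [l] := rfl
  rw [this, prodw_append, prodw_single, prodw_single]

theorem gG0_mem : gG 0 ∈ Subgroup.closure ({zG, U'} : Set G) := by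
  rw [← prodw_single, gen0]; exact prodw_expand_mem _

theorem gG_mem {l : ℕ} (hl : l < nl) : gG l ∈ Subgroup.closure ({zG, U'} : Set G) := by
  have hl' : l < 7 := hl
  interval_cases l
  · exact gG0_mem
  · have h : gG 1 * gG 0 ∈ Subgroup.closure ({zG, U'} : Set G) := by
      rw [← prodw_pair, gen1]; exact prodw_expand_mem _
    have := Subgroup.mul_mem _ h (Subgroup.inv_mem _ gG0_mem)
    simpa using this
  · rw [← prodw_single, gen2]; exact prodw_expand_mem _
  · rw [← prodw_single, gen3]; exact prodw_expand_mem _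
  · rw [← prodw_single, gen4]; exact prodw_expand_mem _
  · have h : gG 5 * gG 0 ∈ Subgroup.closure ({zG, U'} : Set G) := by
      rw [← prodw_pair, gen5]; exact prodw_expand_mem _
    have := Subgroup.mul_mem _ h (Subgroup.inv_mem _ gG0_mem)
    simpa using this
  · rw [← prodw_single, gen6]; exact prodw_expand_mem _

theorem closure_zU : Subgroup.closure ({zG, U'} : Set G) = ⊤ := by
  rw [eq_top_iff, ← hgenG, Subgroup.closure_le]
  rintro g ⟨l, hl, rfl⟩
  exact gG_mem hl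

end Cfsg.Agent.Helper17.SuzOut
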