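import Cfsg.Agent.Helper17.SuzOut.Elts
import Cfsg.Agent.Helper28.S2074NONINN

/-! An outer automorphism of `Suz`: an endomorphism `sigH` of the presented group given on the
generators by explicit words, mapping `U13` to `U13 ^ 2`; it is bijective as `Suz` is simple and
finite, and it is not inner as `U13` and `U13 ^ 2` are not conjugate. -/

set_option autoImplicit false
set_option linter.all false
set_option maxRecDepth 100000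

noncomputable section

namespace Cfsg.Agent.Helper17.SuzOut

open Cfsg.Spor Cfsg.Agent.Helper17.SuzTC Cfsg.Agent.Helper17.SuzOrd

/-- the words of the images of the generators -/
def sW : ℕ → List ℕ
  | 0 => [1, 2, 1, 0, 1, 2, 5, 1, 0, 1, 5, 0, 1, 2, 3, 2, 1, 5, 1, 2, 3, 4, 3, 2, 1, 5, 0, 1, 2, 3, 1, 2, 1, 2, 1, 3, 2, 1, 0, 5, 1, 2, 3, 4, 3, 2, 1, 5, 1, 2, 3, 2, 1, 0, 5, 1, 0, 1, 5, 2, 1, 0, 1, 2, 1, 2, 3, 2, 1, 0, 1, 3, 2, 1, 0, 3, 4, 3, 2, 1, 3]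
  | 1 => [2, 1, 3, 2, 1, 0, 5, 1, 2, 3, 4, 3, 2, 1, 5, 1, 2, 3, 2, 1, 0, 5, 1, 0, 1, 5, 2, 1, 0, 3, 2, 1, 0, 5, 1, 2, 3, 4, 3, 2, 1, 5, 1, 2, 3, 2, 1, 0, 5, 1, 0, 1, 5, 2, 1, 0, 3, 2, 1, 0, 5, 1, 2, 3, 4, 3, 2, 1, 5, 1, 2, 3, 2, 1, 0, 5, 1, 0, 1, 5, 2, 1, 0, 1, 2, 1, 2, 1, 0, 1, 2, 5, 1, 0, 1, 5, 0, 1, 2, 3, 2, 1, 5, 1, 2, 3, 4, 3, 2, 1, 5, 0, 1, 2, 3, 0, 1, 2, 5, 1, 0, 1, 5, 0, 1, 2, 3, 2, 1, 5, 1, 2, 3, 4, 3, 2, 1, 5, 0, 1, 2, 3, 0, 1, 2, 5, 1, 0, 1, 5, 0, 1, 2, 3, 2, 1, 5, 1, 2, 3, 4, 3, 2, 1, 5, 0, 1, 2, 3, 1, 2, 3, 2, 1, 0, 5, 1, 2, 3, 4, 3, 2, 1, 5, 1, 2, 3, 5, 1, 0, 2, 3, 4, 3, 2, 1, 5, 3, 5, 1, 0, 1, 5, 2, 3, 2, 1, 0, 5, 1, 2, 3, 4, 3, 2, 1, 5, 0, 3, 4, 3, 5, 1, 2, 3, 2]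
  | 2 => [1, 2, 1, 3, 2, 1, 0, 5, 1, 2, 3, 4, 3, 2, 1, 5, 1, 2, 3, 2, 1, 0, 5, 1, 0, 1, 5, 2, 1, 0, 3, 2, 1, 0, 5, 1, 2, 3, 4, 3, 2, 1, 5, 1, 2, 3, 2, 1, 0, 5, 1, 0, 1, 5, 2, 1, 0, 3, 2, 1, 0, 5, 1, 2, 3, 4, 3, 2, 1, 5, 1, 2, 3, 2, 1, 0, 5, 1, 0, 1, 5, 2, 1, 0, 1, 2, 1, 2, 1, 0, 1, 2, 5, 1, 0, 1, 5, 0, 1, 2, 3, 2, 1, 5, 1, 2, 3, 4, 3, 2, 1, 5, 0, 1, 2, 3, 0, 1, 2, 5, 1, 0, 1, 5, 0, 1, 2, 3, 2, 1, 5, 1, 2, 3, 4, 3, 2, 1, 5, 0, 1, 2, 3, 1, 3, 2, 1, 0, 1, 3, 2, 1, 0, 3, 4, 3, 2, 1, 3]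
  | 3 => [1, 2, 1, 3, 2, 1, 0, 5, 1, 2, 3, 4, 3, 2, 1, 5, 1, 2, 3, 2, 1, 0, 5, 1, 0, 1, 5, 2, 1, 0, 1, 2, 1, 2, 1, 0, 1, 2, 5, 1, 0, 1, 5, 0, 1, 2, 3, 2, 1, 5, 1, 2, 3, 4, 3, 2, 1, 5, 0, 1, 2, 3, 1, 2, 0, 1, 2, 5, 1, 0, 1, 5, 2, 3, 2, 1, 0, 5, 1, 2, 3, 4, 3, 2, 1, 5, 1, 2, 3, 2, 1, 0, 3, 2, 1, 0, 3, 2, 1, 0, 3, 5, 1, 0, 1, 5, 0, 5, 1]
  | 4 => [2, 1, 3, 2, 1, 0, 5, 1, 2, 3, 4, 3, 2, 1, 5, 1, 2, 3, 2, 1, 0, 5, 1, 0, 1, 5, 2, 1, 0, 3, 2, 1, 0, 5, 1, 2, 3, 4, 3, 2, 1, 5, 1, 2, 3, 2, 1, 0, 5, 1, 0, 1, 5, 2, 1, 0, 1, 2, 1, 2, 1, 0, 1, 2, 5, 1, 0, 1, 5, 0, 1, 2, 3, 2, 1, 5, 1, 2, 3, 4, 3, 2, 1, 5, 0, 1, 2, 3, 1, 2, 1, 2, 1, 3, 2, 1, 0, 5, 1, 2, 3, 4, 3, 2, 1, 5, 1, 2, 3, 2, 1, 0, 5, 1, 0, 1, 5, 2, 1, 0, 1, 2, 3, 2, 1, 0, 5, 1, 2, 3, 4, 3, 2, 1, 5, 1, 2, 3, 2, 1, 0, 3, 2, 1, 0, 5, 1, 2, 3, 4, 3, 2, 1, 5, 1, 2, 0, 1,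 2, 3, 0, 1, 2, 3, 0, 1, 2, 3, 0, 5, 1, 2, 3, 2, 1, 5]
  | 5 => [2, 1, 3, 2, 1, 0, 5, 1, 2, 3, 4, 3, 2, 1, 5, 1, 2, 3, 2, 1, 0, 5, 1, 0, 1, 5, 2, 1, 0, 3, 2, 1, 0, 5, 1, 2, 3, 4, 3, 2, 1, 5, 1, 2, 3, 2, 1, 0, 5, 1, 0, 1, 5, 2, 1, 0, 1, 2, 1, 2, 1, 0, 1, 2, 5, 1, 0, 1, 5, 0, 1, 2, 3, 2, 1, 5, 1, 2, 3, 4, 3, 2, 1, 5, 0, 1, 2, 3, 0, 1, 2, 5, 1, 0, 1, 5, 0, 1, 2, 3, 2, 1, 5, 1, 2, 3, 4, 3, 2, 1, 5, 0, 1, 2, 3, 1, 2, 1, 0, 1, 2, 5, 1, 0, 1, 5, 0, 1, 2, 3, 2, 3, 5, 1, 0, 1, 5, 0, 1, 2, 4, 3, 2, 5, 1, 0, 1, 2]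
  | 6 => [1, 2, 1, 0, 1, 2, 5, 1, 0, 1, 5, 0, 1, 2, 3, 2, 1, 5, 1, 2, 3, 4, 3, 2, 1, 5, 0, 1, 2, 3, 0, 1, 2, 5, 1, 0, 1, 5, 0, 1, 2, 3, 2, 1, 5, 1, 2, 3, 4, 3, 2, 1, 5, 0, 1, 2, 3, 1, 2, 1, 2, 1, 3, 2, 1, 0, 5, 1, 2, 3, 4, 3, 2, 1, 5, 1, 2, 3, 2, 1, 0, 5, 1, 0, 1, 5, 2, 1, 0, 1, 2, 1, 2, 1, 0, 1, 2, 5, 1, 0, 1, 5, 0, 1, 2, 3, 2, 1, 5, 1, 2, 3, 4, 3, 2, 1, 5, 0, 1, 2, 3, 1, 2, 3, 2, 1, 0, 5, 1, 2, 3, 4, 3, 2, 1, 5, 1, 2, 3, 5, 1, 0, 1, 5, 0, 1, 2, 3, 0, 1, 2, 3, 5, 1, 2, 3, 4, 3, 2, 1, 5, 3, 2, 0, 4, 3, 5, 6, 1, 0, 2, 3, 2, 1, 0, 4, 3, 2, 1, 3, 4]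
  | _ => []

def sigF (x : Gn) : G := prodw (sW (idx x))

/-- the labels of the diagram on the letters -/
def labN (k l : ℕ) : ℕ := coxLabel Suz.edges (gen k) (gen l)

theorem labN_idx (x y : Gn) : labN (idx x) (idx y) = coxLabel Suz.edges x y := by
  rw [labN, gen_idx, gen_idx]

def chkCox : Bool :=
  TCG.allD 7 fun k => TCG.allD 7 fun l =>
    chkBase (List.replicate (labN k l) (sW l ++ sW k)).flatten

theorem chkCox_ok : chkCox = true := by decide +kernel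

theorem sig_cox (x y : Gn) : (sigF x * sigF y) ^ coxLabel Suz.edges x y = 1 := by
  have h := chkCox_ok
  rw [chkCox, TCG.allD_iff] at h
  have h1 := h (idx x) (idx_lt x)
  rw [TCG.allD_iff] at h1
  have h2 := prodw_eq_one (h1 (idx y) (idx_lt y))
  rw [prodw_replicate, prodw_append, labN_idx] at h2
  exact h2

theorem E0 : FreeGroup.lift sigF (Suz.a * ((Suz.c * Suz.d) ^ 4)⁻¹) = 1 := by
  have h : prodw (List.replicate 4 (sW 3 ++ sW 2)).flatten = prodw (sW 0) :=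
    prodw_eq_of_chk (by decide +kernel)
  rw [prodw_replicate, prodw_append] at h
  simp only [map_mul, map_inv, map_pow, FreeGroup.lift_apply_of, sigF, idx]
  rw [h, mul_inv_cancel]

theorem E1 : FreeGroup.lift sigF (Suz.a * ((Suz.f * Suz.g) ^ 2)⁻¹) = 1 := by
  have h : prodw (List.replicate 2 (sW 6 ++ sW 5)).flatten = prodw (sW 0) :=
    prodw_eq_of_chk (by decide +kernel)
  rw [prodw_replicate, prodw_append] at h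
  simp only [map_mul, map_inv, map_pow, FreeGroup.lift_apply_of, sigF, idx]
  rw [h, mul_inv_cancel]

theorem E2 : FreeGroup.lift sigF ((Suz.a * Suz.b * Suz.c * Suz.f) ^ 5) = 1 := by
  have h : prodw (List.replicate 5 (sW 5 ++ (sW 2 ++ (sW 1 ++ sW 0)))).flatten = 1 :=
    prodw_eq_one (by decide +kernel)
  rw [prodw_replicate, prodw_append, prodw_append, prodw_append] at h
  simp only [map_mul, map_pow, FreeGroup.lift_apply_of, sigF, idx]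
  exact h

theorem E3 : FreeGroup.lift sigF ((Suz.b * Suz.f * Suz.g) ^ 5) = 1 := by
  have h : prodw (List.replicate 5 (sW 6 ++ (sW 5 ++ sW 1))).flatten = 1 :=
    prodw_eq_one (by decide +kernel)
  rw [prodw_replicate, prodw_append, prodw_append] at h
  simp only [map_mul, map_pow, FreeGroup.lift_apply_of, sigF, idx]
  exact h

theorem E4 : FreeGroup.lift sigF
    (((Suz.b * Suz.c * Suz.d * Suz.c * Suz.d) ^ 5 * Suz.e) ^ 3) = 1 := by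
  have h : prodw (List.replicate 3 (sW 4 ++
      (List.replicate 5 (sW 3 ++ (sW 2 ++ (sW 3 ++ (sW 2 ++ sW 1))))).flatten)).flatten = 1 :=
    prodw_eq_one (by decide +kernel)
  rw [prodw_replicate, prodw_append, prodw_replicate, prodw_append, prodw_append, prodw_append,
    prodw_append] at h
  simp only [map_mul, map_pow, FreeGroup.lift_apply_of, sigF, idx]
  exact h

theorem hsig : ∀ r ∈ Rels, FreeGroup.lift sigF r = 1 := by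
  intro r hr
  rcases hr with ⟨x, _, y, _, rfl⟩ | hr
  · rw [map_pow, map_mul, FreeGroup.lift_apply_of, FreeGroup.lift_apply_of]
    exact sig_cox x y
  · have hr' : r ∈ Suz.extra := hr
    simp only [Suz.extra, List.mem_cons, List.mem_nil_iff, or_false] at hr'
    rcases hr' with rfl | rfl | rfl | rfl | rfl
    · exact E0
    · exact E1
    · exact E2
    · exact E3
    · exact E4

/-- the endomorphism -/
def sigH : G →* G := PresentedGroup.toGroup hsig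

theorem idx_gen {l : ℕ} (hl : l < nl) : idx (gen l) = l := by
  have hl' : l < 7 := hl
  interval_cases l <;> rfl

theorem sigH_gG {l : ℕ} (hl : l < nl) : sigH (gG l) = prodw (sW l) := by
  unfold gG sigH
  rw [PresentedGroup.toGroup.of, sigF, idx_gen hl]

/-- the image of a word -/
def sexp (w : List ℕ) : List ℕ :=
  List.rec (motive := fun _ => List ℕ) [] (fun l _ ih => sW l ++ ih) w

theorem sexp_cons (l : ℕ) (w : List ℕ) : sexp (l :: w) = sW l ++ sexp w := rfl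

theorem sigH_prodw (w : List ℕ) (h : ∀ l ∈ w, l < nl) : sigH (prodw w) = prodw (sexp w) := by
  induction w with
  | nil => simp [prodw, sexp]
  | cons l w ih =>
    rw [prodw, map_mul, sigH_gG (h l (List.mem_cons_self ..)),
      ih (fun x hx => h x (List.mem_cons_of_mem _ hx)), sexp_cons, prodw_append]

theorem sigH_U13 : sigH U13 = U13 ^ 2 := by
  have h : prodw (sexp u13W) = prodw (List.replicate 2 u13W).flatten :=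
    prodw_eq_of_chk (by decide +kernel)
  rw [U13, sigH_prodw _ (ltW (by decide +kernel)), h, prodw_replicate]

theorem U13_sq_ne : U13 ^ 2 ≠ 1 := by
  intro h
  have := orderOf_dvd_of_pow_eq_one h
  rw [orderOf_U13] at this
  norm_num at this

theorem sigH_injective : Function.Injective sigH := by
  haveI := isSimple
  rw [← MonoidHom.ker_eq_bot_iff]
  rcases (MonoidHom.normal_ker sigH).eq_bot_or_eq_top with h | h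
  · exact h
  · exfalso
    have : U13 ∈ sigH.ker := by rw [h]; trivial
    rw [MonoidHom.mem_ker, sigH_U13] at this
    exact U13_sq_ne this

theorem sigH_bijective : Function.Bijective sigH := by
  haveI := finG
  exact ⟨sigH_injective, Finite.injective_iff_surjective.mp sigH_injective⟩

/-- the automorphism -/
def sigA : MulAut G := MulEquiv.ofBijective sigH sigH_bijective

theorem sigA_U13 : sigA U13 = U13 ^ 2 := sigH_U13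

theorem sigA_not_mem : (sigA : MulAut G) ∉ Cfsg.Inn G := by
  haveI := finG
  rintro ⟨t, ht⟩
  apply not_conj_sq card_G U13 Nn orderOf_U13 Nn_conj cent_U13
  refine ⟨t, ?_⟩
  rw [← sigA_U13, ← ht, MulAut.conj_apply]

end Cfsg.Agent.Helper17.SuzOut
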