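import Cfsg.Agent.Helper17.SuzOut.XSide
import Cfsg.Agent.Helper17.SuzOut.Gen
import Cfsg.Agent.Helper17.SuzOut.Sigma
import Cfsg.Agent.Helper14.J3OA
import Cfsg.Agent.Helper22.OutOne

/-! The outer automorphism group of `Suz` has order 2. -/

set_option autoImplicit false
set_option linter.all false
set_option maxRecDepth 100000

noncomputable section

namespace Cfsg.Agent.Helper17.SuzOut

open Cfsg.Spor Cfsg.Agent.Helper17.SuzTC Cfsg.Agent.Helper17.SuzOrd

theorem residues13 : ∀ k, 0 < k → k < 13 →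
    ∃ j, k % 13 = 4 ^ j % 13 ∨ k % 13 = (2 * 4 ^ j) % 13 := by
  intro k h0 h1
  interval_cases k
  · exact ⟨0, Or.inl (by norm_num)⟩
  · exact ⟨0, Or.inr (by norm_num)⟩
  · exact ⟨2, Or.inl (by norm_num)⟩
  · exact ⟨1, Or.inl (by norm_num)⟩
  · exact ⟨4, Or.inr (by norm_num)⟩
  · exact ⟨2, Or.inr (by norm_num)⟩
  · exact ⟨5, Or.inr (by norm_num)⟩
  · exact ⟨1, Or.inr (by norm_num)⟩
  · exact ⟨4, Or.inl (by norm_num)⟩
  · exact ⟨5, Or.inl (by norm_num)⟩
  · exact ⟨3, Or.inr (by norm_num)⟩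
  · exact ⟨3, Or.inl (by norm_num)⟩

theorem center_G : Subgroup.center G = ⊥ := by
  haveI := isSimple
  haveI : Finite G := finG
  apply Cfsg.Agent.Helper22.OutTwo.center_eq_bot_of_simple
  rw [card_G13]
  exact Nat.not_prime_mul (by norm_num) (by norm_num)

open Classical in
/-- the candidates for the image of `zG` -/
def SZ : Finset G := (Finset.range 13).image fun i => U' ^ i * zG * (U' ^ i)⁻¹

open Classical in
theorem card_SZ : SZ.card ≤ 13 := by
  refine (Finset.card_image_le).trans ?_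
  simp

open Classical in
theorem aut_z (φ : MulAut G) (hu : φ U' = U') : φ zG ∈ SZ := by
  obtain ⟨i, hi⟩ := hstabU φ hu
  rw [SZ, Finset.mem_image]
  refine ⟨i % 13, Finset.mem_range.mpr (Nat.mod_lt _ (by norm_num)), ?_⟩
  have e : U' ^ (i % 13) = U' ^ i := by
    rw [← orderOf_U']; exact pow_mod_orderOf U' i
  rw [e, hi]

theorem card_mulAut_le : Nat.card (MulAut G) ≤ 2 * Nat.card G := by
  classical
  haveI : Finite G := finG
  exact Cfsg.Agent.Helper14.J3Out.card_mulAut_le 13 34488115200 card_G13 (by norm_num)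
    zG U' N' closure_zU orderOf_U' 4 N'_conj residues13 SZ card_SZ aut_z

theorem card_out : Nat.card (Cfsg.Out G) = 2 := by
  haveI : Finite G := finG
  exact Cfsg.Agent.Helper14.J3Out.card_out_eq_two center_G card_mulAut_le sigA sigA_not_mem

end Cfsg.Agent.Helper17.SuzOut
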