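import Cfsg.Agent.Helper17.SuzOut.TreeAData

/-! A shallow spanning tree of a Schreier graph on the 1782 points of `Suz` (letters: 16
involutions given as palindromic words): coset representatives `tA j` with `phi (tA j) 0 = j`,
a kernel-friendly evaluation of their inverses, and the three-valued relation `r3`
(equal / adjacent / non-adjacent in the Suzuki graph). -/

set_option autoImplicit false
set_option linter.all false
set_option maxRecDepth 100000

noncomputable section

namespace Cfsg.Agent.Helper17.SuzOut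

open Cfsg.Spor Cfsg.Agent.Helper17.SuzTC Cfsg.Agent.Helper17.SuzOrd

/-- evaluate `e` before passing it on (kernel: the major premise of `Nat.rec` is put in normal form) -/
def force {α : Sort*} (e : ℕ) (k : ℕ → α) : α :=
  Nat.rec (motive := fun _ => α) (k 0) (fun n _ => k (Nat.succ n)) e

theorem force_eq {α : Sort*} (e : ℕ) (k : ℕ → α) : force e k = k e := by
  cases e <;> rfl

/-- table lookup by letter -/
def lkA (l i : ℕ) : ℕ := Nat.land (Nat.shiftRight (col l) (Nat.mul 11 i)) 2047

theorem lkA_eq (l i : ℕ) : lkA l i = tb i l := rfl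

/-- evaluation of a word of letters -/
def evalA (w : List ℕ) (i : ℕ) : ℕ :=
  List.rec (motive := fun _ => ℕ → ℕ) (fun i => i) (fun l _ ih i => ih (lkA l i)) w i

theorem evalA_cons (l : ℕ) (w : List ℕ) (i : ℕ) : evalA (l :: w) i = evalA w (lkA l i) := rfl

theorem evalA_nil (i : ℕ) : evalA [] i = i := rfl

theorem evalw_eq_evalA (w : List ℕ) (hw : ∀ l ∈ w, l < nl) {i : ℕ} (hi : i < N) :
    evalw w i = evalA w i := by
  induction w generalizing i with
  | nil => rfl
  | cons l w ih =>
    have hl : l < nl := hw l (List.mem_cons_self ..)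
    rw [evalw, evalA_cons, sg, if_pos ⟨hl, hi⟩, lkA_eq]
    exact ih (fun x hx => hw x (List.mem_cons_of_mem _ hx)) (tb_spec hl hi).1

theorem evalA_append (u v : List ℕ) (i : ℕ) : evalA (u ++ v) i = evalA v (evalA u i) := by
  induction u generalizing i with
  | nil => rfl
  | cons a u ih => rw [List.cons_append, evalA_cons, evalA_cons, ih]

theorem evalA_lt (w : List ℕ) (hw : ∀ l ∈ w, l < nl) {i : ℕ} (hi : i < N) : evalA w i < N := by
  rw [← evalw_eq_evalA w hw hi]
  exact evalw_lt w hi

/-! ### the extended letters -/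

/-- lookup for the extended letters -/
def lkE (l i : ℕ) : ℕ :=
  Nat.land (Nat.shiftRight TBE (Nat.mul 11 (Nat.add (Nat.mul l 1782) i))) 2047

/-- evaluation of a word of extended letters -/
def evalE (w : List ℕ) (i : ℕ) : ℕ :=
  List.rec (motive := fun _ => ℕ → ℕ) (fun i => i) (fun l _ ih i => ih (lkE l i)) w i

theorem evalE_cons (l : ℕ) (w : List ℕ) (i : ℕ) : evalE (l :: w) i = evalE w (lkE l i) := rfl

theorem evalE_append (u : List ℕ) (l i : ℕ) : evalE (u ++ [l]) i = lkE l (evalE u i) := by
  induction u generalizing i with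
  | nil => rfl
  | cons a u ih => rw [List.cons_append, evalE_cons, evalE_cons, ih]

/-- expansion of a word of extended letters -/
def expE (w : List ℕ) : List ℕ := w.flatMap xwE

theorem expE_cons (l : ℕ) (w : List ℕ) : expE (l :: w) = xwE l ++ expE w := by
  simp [expE]

theorem expE_append (u v : List ℕ) : expE (u ++ v) = expE u ++ expE v := by
  simp [expE]

/-- the check of the extended letter `l`: letters, palindrome, table -/
def chkE (l : ℕ) : Bool :=
  ((xwE l).all fun x => decide (x < nl)) && eqLst (xwE l).reverse (xwE l) &&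
    TCG.allD 1782 fun i => Nat.beq (lkE l i) (evalA (xwE l) i)
where
  eqLst : List ℕ → List ℕ → Bool
    | [], [] => true
    | a :: as, b :: bs => Nat.beq a b && eqLst as bs
    | _, _ => false

theorem eqLst_iff (a b : List ℕ) : chkE.eqLst a b = true ↔ a = b := by
  induction a generalizing b with
  | nil => cases b <;> simp [chkE.eqLst]
  | cons x a ih =>
    cases b with
    | nil => simp [chkE.eqLst]
    | cons y b => simp [chkE.eqLst, ih, TCG.nbeq]

theorem EOK : TCG.allD 16 chkE = true := by decide +kernel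

theorem chkE_all {l : ℕ} (hl : l < 16) : chkE l = true := (TCG.allD_iff _ _).mp EOK l hl

theorem xwE_lt {l : ℕ} (hl : l < 16) : ∀ x ∈ xwE l, x < nl := by
  have := chkE_all hl
  simp only [chkE, Bool.and_eq_true, List.all_eq_true, decide_eq_true_eq] at this
  exact this.1.1

theorem xwE_rev {l : ℕ} (hl : l < 16) : (xwE l).reverse = xwE l := by
  have := chkE_all hl
  simp only [chkE, Bool.and_eq_true] at this
  exact (eqLst_iff _ _).mp this.1.2

theorem lkE_eq {l : ℕ} (hl : l < 16) {i : ℕ} (hi : i < N) : lkE l i = evalA (xwE l) i := by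
  have := chkE_all hl
  simp only [chkE, Bool.and_eq_true] at this
  exact TCG.nbeq.mp ((TCG.allD_iff _ _).mp this.2 i hi)

theorem expE_lt {w : List ℕ} (hw : ∀ l ∈ w, l < 16) : ∀ x ∈ expE w, x < nl := by
  intro x hx
  simp only [expE, List.mem_flatMap] at hx
  obtain ⟨l, hl, hx⟩ := hx
  exact xwE_lt (hw l hl) x hx

theorem expE_reverse {w : List ℕ} (hw : ∀ l ∈ w, l < 16) : expE w.reverse = (expE w).reverse := by
  induction w with
  | nil => rfl
  | cons l w ih =>
    have e1 : expE [l] = xwE l := by simp [expE]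
    rw [List.reverse_cons, expE_append, e1, expE_cons, List.reverse_append,
      ih (fun x hx => hw x (List.mem_cons_of_mem _ hx)), xwE_rev (hw l (List.mem_cons_self ..))]

theorem evalE_eq {w : List ℕ} (hw : ∀ l ∈ w, l < 16) {i : ℕ} (hi : i < N) :
    evalE w i = evalA (expE w) i := by
  induction w generalizing i with
  | nil => rfl
  | cons l w ih =>
    have hl : l < 16 := hw l (List.mem_cons_self ..)
    rw [evalE_cons, expE_cons, evalA_append, lkE_eq hl hi]
    exact ih (fun x hx => hw x (List.mem_cons_of_mem _ hx)) (evalA_lt _ (xwE_lt hl) hi)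

/-! ### the tree -/

def entA (j : ℕ) : ℕ := Nat.land (Nat.shiftRight entT (Nat.mul 15 j)) 32767

def parA (j : ℕ) : ℕ := Nat.shiftRight (entA j) 4

def labA (j : ℕ) : ℕ := Nat.land (entA j) 15

/-- apply the inverse of the coset representative of `j` to the point `p` -/
def upA (f : ℕ) : ℕ → ℕ → ℕ :=
  Nat.rec (motive := fun _ => ℕ → ℕ → ℕ) (fun _ p => p)
    (fun _ ih j p => cond (Nat.beq j 0) p
      (force (entA j) fun e => force (lkE (Nat.land e 15) p) fun p' =>
        ih (Nat.shiftRight e 4) p')) f

/-- the image of the point `0` under the coset representative of `j` -/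
def dnA (f : ℕ) : ℕ → ℕ :=
  Nat.rec (motive := fun _ => ℕ → ℕ) (fun _ => 0)
    (fun _ ih j => cond (Nat.beq j 0) 0
      (force (entA j) fun e => lkE (Nat.land e 15) (ih (Nat.shiftRight e 4)))) f

/-- the word (in extended letters) of the coset representative of `j` -/
def tWA : ℕ → ℕ → List ℕ
  | 0, _ => []
  | f + 1, j => if j = 0 then [] else tWA f (parA j) ++ [labA j]

theorem upA_zero (j p : ℕ) : upA 0 j p = p := rfl

theorem upA_succ (f j p : ℕ) :
    upA (f + 1) j p = if j = 0 then p else upA f (parA j) (lkE (labA j) p) := by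
  show cond (Nat.beq j 0) p (force (entA j) fun e => force (lkE (Nat.land e 15) p) fun p' =>
        upA f (Nat.shiftRight e 4) p') = _
  rw [force_eq, force_eq]
  by_cases h : j = 0
  · subst h; rfl
  · rw [if_neg h]
    have : Nat.beq j 0 = false := by
      cases hb : Nat.beq j 0
      · rfl
      · exact absurd (TCG.nbeq.mp hb) h
    rw [this]
    rfl

theorem dnA_succ (f j : ℕ) :
    dnA (f + 1) j = if j = 0 then 0 else lkE (labA j) (dnA f (parA j)) := by
  show cond (Nat.beq j 0) 0 (force (entA j) fun e =>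
    lkE (Nat.land e 15) (dnA f (Nat.shiftRight e 4))) = _
  rw [force_eq]
  by_cases h : j = 0
  · subst h; rfl
  · rw [if_neg h]
    have : Nat.beq j 0 = false := by
      cases hb : Nat.beq j 0
      · rfl
      · exact absurd (TCG.nbeq.mp hb) h
    rw [this]
    rfl

theorem dnA_eq (f j : ℕ) : dnA f j = evalE (tWA f j) 0 := by
  induction f generalizing j with
  | zero => rfl
  | succ f ih =>
    rw [dnA_succ, tWA]
    by_cases h : j = 0
    · rw [if_pos h, if_pos h]; rfl
    · rw [if_neg h, if_neg h, evalE_append, ih]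

theorem upA_eq (f j p : ℕ) : upA f j p = evalE (tWA f j).reverse p := by
  induction f generalizing j p with
  | zero => rfl
  | succ f ih =>
    rw [upA_succ, tWA]
    by_cases h : j = 0
    · rw [if_pos h, if_pos h]; rfl
    · rw [if_neg h, if_neg h, List.reverse_append, List.reverse_singleton, List.singleton_append,
        evalE_cons, ih]

/-- the check of the tree at the point `j` -/
def chkTA (j : ℕ) : Bool := Nat.blt (parA j) 1782 && Nat.beq (dnA 8 j) j

theorem TRA : TCG.allD 1782 chkTA = true := by decide +kernel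

theorem chkTA_all : ∀ j, j < N → chkTA j = true := by
  intro j hj
  exact (TCG.allD_iff _ _).mp TRA j hj

theorem labA_lt (j : ℕ) : labA j < 16 := by
  unfold labA
  exact Nat.lt_succ_of_le Nat.and_le_right

theorem parA_lt {j : ℕ} (hj : j < N) : parA j < N := by
  have := chkTA_all j hj
  simp only [chkTA, Bool.and_eq_true, Nat.blt_eq] at this
  exact this.1

theorem dnA_ok {j : ℕ} (hj : j < N) : dnA 8 j = j := by
  have := chkTA_all j hj
  simp only [chkTA, Bool.and_eq_true] at this
  exact TCG.nbeq.mp this.2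

theorem tWA_lt (f j : ℕ) : ∀ l ∈ tWA f j, l < 16 := by
  induction f generalizing j with
  | zero => intro l hl; simp [tWA] at hl
  | succ f ih =>
    intro l hl
    rw [tWA] at hl
    by_cases h : j = 0
    · rw [if_pos h] at hl; simp at hl
    · rw [if_neg h, List.mem_append, List.mem_singleton] at hl
      rcases hl with hl | rfl
      · exact ih _ l hl
      · exact labA_lt j

/-- the coset representative of the point `j` -/
def tA (j : ℕ) : G := prodw (expE (tWA 8 j))

theorem phi_tA {j : ℕ} (hj : j < N) : phi (tA j) 0 = j := by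
  have h0 : (0 : ℕ) < N := by decide
  rw [tA, phi_prodw_apply _ (expE_lt (tWA_lt 8 j)), evalw_eq_evalA _ (expE_lt (tWA_lt 8 j)) h0,
    ← evalE_eq (tWA_lt 8 j) h0, ← dnA_eq, dnA_ok hj]

theorem phi_tA_inv (j : ℕ) {p : ℕ} (hp : p < N) :
    phi (tA j)⁻¹ p = upA 8 j p := by
  have hlt : ∀ l ∈ (tWA 8 j).reverse, l < 16 := by
    intro l hl
    exact tWA_lt 8 j l (List.mem_reverse.mp hl)
  rw [tA, ← prodw_reverse, ← expE_reverse (tWA_lt 8 j), phi_prodw_apply _ (expE_lt hlt),
    evalw_eq_evalA _ (expE_lt hlt) hp, ← evalE_eq hlt hp, upA_eq]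

theorem upA_lt (j : ℕ) {p : ℕ} (hp : p < N) : upA 8 j p < N := by
  rw [← phi_tA_inv j hp]
  exact phi_lt _ hp

/-- the relation of the points `p`, `q`: `0` if equal, `2` if adjacent, `1` otherwise -/
def r3 (p q : ℕ) : ℕ := force (upA 8 p q) fun x => Nat.land (Nat.shiftRight oidT (Nat.mul 2 x)) 3

theorem r3_eq (p q : ℕ) : r3 p q = oid (upA 8 p q) := force_eq _ _

theorem r3_inv (g : G) {p q : ℕ} (hp : p < N) (hq : q < N) :
    r3 (phi g p) (phi g q) = r3 p q := by
  have hp' : phi g p < N := phi_lt g hp
  have hq' : phi g q < N := phi_lt g hq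
  rw [r3_eq, r3_eq, ← phi_tA_inv _ hq', ← phi_tA_inv _ hq]
  set a := tA (phi g p) with ha
  set b := tA p with hb
  have hmem : a⁻¹ * g * b ∈ Hs := by
    rw [← stab0, map_mul, map_mul, Equiv.Perm.mul_apply, Equiv.Perm.mul_apply, hb, phi_tA hp,
      map_inv, Equiv.Perm.inv_eq_iff_eq, ha, phi_tA hp']
  have e : phi a⁻¹ (phi g q) = phi (a⁻¹ * g * b) (phi b⁻¹ q) := by
    simp only [map_mul, map_inv, Equiv.Perm.mul_apply]
    congr 2
    exact ((phi b).apply_symm_apply q).symm
  rw [e]
  exact phi_cls _ hmem _ (phi_lt _ hq)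

end Cfsg.Agent.Helper17.SuzOut
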