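import Cfsg.Agent.Helper17.SuzbTC.Orb
import Cfsg.Agent.Helper17.SuzOut.TreeA

/-! The spanning tree of the Schreier graph on the 22880 points of `Suz` (cosets of the normalizer
of a 3A-subgroup): coset representatives `tB j`, kernel-friendly evaluation of their inverses,
the relation `relB` (the suborbit of `q` seen from `p`). -/

set_option autoImplicit false
set_option linter.all false
set_option maxRecDepth 100000
set_option maxHeartbeats 0

noncomputable section

namespace Cfsg.Agent.Helper17.SuzOut

open Cfsg.Spor Cfsg.Agent.Helper17.SuzbTC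

theorem phiB_prodw (w : List ℕ) (h : ∀ l ∈ w, l < nl) : phi (prodw w) = permw w := by
  induction w with
  | nil => simp [prodw, permw]
  | cons l w ih =>
    rw [prodw, permw, map_mul, phi_gG (h l (List.mem_cons_self ..)),
      ih (fun x hx => h x (List.mem_cons_of_mem _ hx))]

theorem phiB_prodw_apply (w : List ℕ) (h : ∀ l ∈ w, l < nl) {i : ℕ} (hi : i < N) :
    phi (prodw w) i = evalC w i := by
  rw [phiB_prodw w h, permw_apply, evalw_eq_evalC w h hi]

theorem prodwB_append (u v : List ℕ) : prodw (u ++ v) = prodw v * prodw u := by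
  induction u with
  | nil => simp [prodw]
  | cons l u ih => simp [prodw, ih, mul_assoc]

theorem prodwB_reverse (u : List ℕ) : prodw u.reverse = (prodw u)⁻¹ := by
  induction u with
  | nil => simp [prodw]
  | cons l u ih =>
    rw [List.reverse_cons, prodwB_append, ih, prodw, prodw, prodw, one_mul, mul_inv_rev, gG_inv]

theorem evalC_append (w : List ℕ) (l i : ℕ) : evalC (w ++ [l]) i = lk2 l (evalC w i) := by
  induction w generalizing i with
  | nil => rfl
  | cons a w ih => rw [List.cons_append, evalC_cons, evalC_cons, ih]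

/-- apply the inverse of the coset representative of `j` to the point `p` -/
def upB (f : ℕ) : ℕ → ℕ → ℕ :=
  Nat.rec (motive := fun _ => ℕ → ℕ → ℕ) (fun _ p => p)
    (fun _ ih j p => force j fun j' => cond (Nat.beq j' 0) p
      (force (lk2 (pletK j') p) fun p' => ih (parK j') p')) f

/-- the image of the point `0` under the coset representative of `j` -/
def dnB (f : ℕ) : ℕ → ℕ :=
  Nat.rec (motive := fun _ => ℕ → ℕ) (fun _ => 0)
    (fun _ ih j => force j fun j' => cond (Nat.beq j' 0) 0 (lk2 (pletK j') (ih (parK j')))) f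

/-- the word of the coset representative of `j` -/
def tWB : ℕ → ℕ → List ℕ
  | 0, _ => []
  | f + 1, j => if j = 0 then [] else tWB f (parK j) ++ [pletK j]

theorem upB_succ (f j p : ℕ) :
    upB (f + 1) j p = if j = 0 then p else upB f (parK j) (lk2 (pletK j) p) := by
  show (force j fun j' => cond (Nat.beq j' 0) p
    (force (lk2 (pletK j') p) fun p' => upB f (parK j') p')) = _
  rw [force_eq, force_eq]
  by_cases h : j = 0
  · subst h; rfl
  · rw [if_neg h]
    have : Nat.beq j 0 = false := by
      cases hb : Nat.beq j 0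
      · rfl
      · exact absurd (TCG.nbeq.mp hb) h
    rw [this]
    rfl

theorem dnB_succ (f j : ℕ) :
    dnB (f + 1) j = if j = 0 then 0 else lk2 (pletK j) (dnB f (parK j)) := by
  show (force j fun j' => cond (Nat.beq j' 0) 0 (lk2 (pletK j') (dnB f (parK j')))) = _
  rw [force_eq]
  by_cases h : j = 0
  · subst h; rfl
  · rw [if_neg h]
    have : Nat.beq j 0 = false := by
      cases hb : Nat.beq j 0
      · rfl
      · exact absurd (TCG.nbeq.mp hb) h
    rw [this]
    rfl

theorem dnB_eq (f j : ℕ) : dnB f j = evalC (tWB f j) 0 := by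
  induction f generalizing j with
  | zero => rfl
  | succ f ih =>
    rw [dnB_succ, tWB]
    by_cases h : j = 0
    · rw [if_pos h, if_pos h]; rfl
    · rw [if_neg h, if_neg h, evalC_append, ih]

theorem upB_eq (f j p : ℕ) : upB f j p = evalC (tWB f j).reverse p := by
  induction f generalizing j p with
  | zero => rfl
  | succ f ih =>
    rw [upB_succ, tWB]
    by_cases h : j = 0
    · rw [if_pos h, if_pos h]; rfl
    · rw [if_neg h, if_neg h, List.reverse_append, List.reverse_singleton, List.singleton_append,
        evalC_cons, ih]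

/-- the check of the tree at the point `j` -/
def chkTB (j : ℕ) : Bool :=
  Nat.blt (pletK j) 7 && Nat.blt (parK j) 22880 && Nat.beq (dnB 40 j) j

theorem TRB0 : TCG.allR 0 12000 chkTB = true := by decide +kernel

theorem TRB1 : TCG.allR 12000 10880 chkTB = true := by decide +kernel

theorem chkTB_all : ∀ j, j < N → chkTB j = true := by
  intro j hj
  have hN : N = 22880 := rfl
  by_cases h0 : j < 12000
  · exact (TCG.allR_iff _ _ _).mp TRB0 j (by omega) (by omega)
  · exact (TCG.allR_iff _ _ _).mp TRB1 j (by omega) (by omega)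

theorem labB_lt {j : ℕ} (hj : j < N) : pletK j < nl := by
  have := chkTB_all j hj
  simp only [chkTB, Bool.and_eq_true, Nat.blt_eq] at this
  exact this.1.1

theorem parB_lt {j : ℕ} (hj : j < N) : parK j < N := by
  have := chkTB_all j hj
  simp only [chkTB, Bool.and_eq_true, Nat.blt_eq] at this
  exact this.1.2

theorem dnB_ok {j : ℕ} (hj : j < N) : dnB 40 j = j := by
  have := chkTB_all j hj
  simp only [chkTB, Bool.and_eq_true] at this
  exact TCG.nbeq.mp this.2

theorem tWB_lt (f : ℕ) {j : ℕ} (hj : j < N) : ∀ l ∈ tWB f j, l < nl := by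
  induction f generalizing j with
  | zero => intro l hl; simp [tWB] at hl
  | succ f ih =>
    intro l hl
    rw [tWB] at hl
    by_cases h : j = 0
    · rw [if_pos h] at hl; simp at hl
    · rw [if_neg h, List.mem_append, List.mem_singleton] at hl
      rcases hl with hl | rfl
      · exact ih (parB_lt hj) l hl
      · exact labB_lt hj

/-- the coset representative of the point `j` -/
def tB (j : ℕ) : G := prodw (tWB 40 j)

theorem phi_tB {j : ℕ} (hj : j < N) : phi (tB j) 0 = j := by
  rw [tB, phiB_prodw_apply _ (tWB_lt 40 hj) N_pos, ← dnB_eq, dnB_ok hj]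

theorem phi_tB_inv {j : ℕ} (hj : j < N) {p : ℕ} (hp : p < N) :
    phi (tB j)⁻¹ p = upB 40 j p := by
  have hlt : ∀ l ∈ (tWB 40 j).reverse, l < nl := by
    intro l hl
    exact tWB_lt 40 hj l (List.mem_reverse.mp hl)
  rw [tB, ← prodwB_reverse, phiB_prodw_apply _ hlt hp, upB_eq]

/-- the suborbit of `q` seen from `p` -/
def relB (p q : ℕ) : ℕ := Nat.land (Nat.shiftRight oidT (Nat.mul 3 (upB 40 p q))) 7

theorem relB_eq (p q : ℕ) : relB p q = oid (upB 40 p q) := rfl

theorem stab0B {g : G} : phi g 0 = 0 ↔ g ∈ Hs := by
  constructor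
  · intro h
    have h1 : psiQ (g • n0) = psiQ n0 := by
      unfold psiQ
      rw [TCG.psi_smul]
      have h0 := psi_n0
      unfold psiQ at h0
      rw [h0, h]
    have h2 := psi_inj h1
    unfold n0 at h2
    rw [MulAction.Quotient.smul_mk, QuotientGroup.eq] at h2
    simpa using Hs.inv_mem h2
  · intro h
    exact hH g h

theorem transB {p : ℕ} (hp : p < N) : ∃ g : G, phi g 0 = p := ⟨tB p, phi_tB hp⟩

end Cfsg.Agent.Helper17.SuzOut
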